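import Groth.Agent.ModPairBasic.Localization

/-!
# Localization of slice categories
-/

set_option autoImplicit false
universe w v v₁ v₂ v₃ v₄ u₁ u₂ u₃ u₄
open CategoryTheory

namespace Groth.Agent.SliceLoc

variable {C : Type u₁} [Category.{v₁} C] (W : MorphismProperty C) [W.HasRightCalculusOfFractions]
  {D : Type u₂} [Category.{v₂} D] (L : C ⥤ D) [L.IsLocalization W] (S : C)
  (P : ObjectProperty (Over S))

/-- The class of morphisms on a full subcategory of the slice. -/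
abbrev WS : MorphismProperty P.FullSubcategory := (W.inverseImage (Over.forget S)).inverseImage P.ι

variable {W S P} (hP : ∀ (X : Over S) {X' : C} (s : X' ⟶ X.left), W s → P X → P (Over.mk (s ≫ X.hom)))

include hP in
lemma hasRightCalculus : (WS W S P).HasRightCalculusOfFractions where
  id_mem X := W.id_mem _
  comp_mem f g hf hg := W.comp_mem _ _ hf hg
  exists_rightFraction X Y φ := by
    obtain ⟨ψ, hψ⟩ := (MorphismProperty.LeftFraction.mk (W := W) φ.f.hom.left φ.s.hom.left φ.hs).exists_rightFraction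
    let X' : P.FullSubcategory := ⟨Over.mk (ψ.s ≫ X.obj.hom), hP X.obj ψ.s ψ.hs X.property⟩
    refine ⟨⟨P.homMk (Over.homMk ψ.s : X'.obj ⟶ X.obj), ψ.hs, P.homMk (Over.homMk ψ.f ?_ : X'.obj ⟶ Y.obj)⟩, ?_⟩
    · show ψ.f ≫ Y.obj.hom = ψ.s ≫ X.obj.hom
      rw [← Over.w φ.s.hom, ← Category.assoc]
      refine (congrArg (· ≫ _) hψ.symm).trans ?_
      rw [Category.assoc, Over.w]
    · ext
      exact hψ
  ext X Y Y' f₁ f₂ s hs h := by
    obtain ⟨X₀, t, ht, e⟩ := MorphismProperty.HasRightCalculusOfFractions.ext f₁.hom.left f₂.hom.left s.hom.left hs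
      (congrArg (fun m => m.hom.left) h)
    exact ⟨⟨Over.mk (t ≫ X.obj.hom), hP X.obj t ht X.property⟩, P.homMk (Over.homMk t : Over.mk (t ≫ X.obj.hom) ⟶ X.obj),
      ht, by ext; exact e⟩

include hP in
theorem full_faithful {E : Type u₃} [Category.{v₃} E] (L' : P.FullSubcategory ⥤ E)
    [L'.IsLocalization (WS W S P)] (Φ : E ⥤ Over (L.obj S)) (e : L' ⋙ Φ ≅ P.ι ⋙ Over.post L) :
    Φ.Full ∧ Φ.Faithful := by
  have := hasRightCalculus hP
  have hsurj : ∀ A : E, ∃ X, Nonempty (L'.obj X ≅ A) := fun A => by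
    have := Localization.essSurj L' (WS W S P)
    exact ⟨L'.objPreimage A, ⟨L'.objObjPreimageIso A⟩⟩
  have hinv : ∀ {X Y : P.FullSubcategory} (s : X ⟶ Y), WS W S P s → IsIso (L'.map s) :=
    fun s hs => Localization.inverts L' (WS W S P) s hs
  have hnat : ∀ {X Y : P.FullSubcategory} (f : X ⟶ Y),
      (e.inv.app X ≫ Φ.map (L'.map f) ≫ e.hom.app Y).left = L.map f.hom.left := by
    intro X Y f
    refine Eq.trans ?_ (show ((P.ι ⋙ Over.post L).map f).left = _ from rfl)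
    refine congrArg CommaMorphism.left ?_
    rw [show Φ.map (L'.map f) = (L' ⋙ Φ).map f from rfl, e.hom.naturality f, ← Category.assoc, Iso.inv_hom_id_app]
    exact Category.id_comp _
  constructor
  · suffices key : ∀ (X Y : P.FullSubcategory) (φ : Φ.obj (L'.obj X) ⟶ Φ.obj (L'.obj Y)),
        ∃ α : L'.obj X ⟶ L'.obj Y, Φ.map α = φ by
      refine ⟨fun {A B} ψ => ?_⟩
      obtain ⟨X, ⟨a⟩⟩ := hsurj A
      obtain ⟨Y, ⟨b⟩⟩ := hsurj B
      obtain ⟨α, hα⟩ := key X Y (Φ.map a.hom ≫ ψ ≫ Φ.map b.inv)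
      refine ⟨a.inv ≫ α ≫ b.hom, ?_⟩
      simp [hα]
    intro X Y φ
    let ψ := e.inv.app X ≫ φ ≫ e.hom.app Y
    obtain ⟨χ, hχ⟩ := Localization.exists_rightFraction L W ψ.left
    have hw : ψ.left ≫ L.map Y.obj.hom = L.map X.obj.hom := Over.w ψ
    have heq : L.map (χ.f ≫ Y.obj.hom) = L.map (χ.s ≫ X.obj.hom) := by
      rw [L.map_comp, L.map_comp, ← hw, hχ]
      exact (χ.map_s_comp_map_assoc L (Localization.inverts L W) _).symm
    obtain ⟨X₀, t, ht, htt⟩ := (MorphismProperty.map_eq_iff_precomp L W _ _).mp heq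
    let X' : P.FullSubcategory :=
      ⟨Over.mk ((t ≫ χ.s) ≫ X.obj.hom), hP X.obj _ (W.comp_mem _ _ ht χ.hs) X.property⟩
    let s : X' ⟶ X := P.homMk (Over.homMk (t ≫ χ.s) : X'.obj ⟶ X.obj)
    let f : X' ⟶ Y := P.homMk (Over.homMk (t ≫ χ.f) (by
      show (t ≫ χ.f) ≫ Y.obj.hom = (t ≫ χ.s) ≫ X.obj.hom
      rw [Category.assoc, htt, ← Category.assoc]) : X'.obj ⟶ Y.obj)
    have hs : WS W S P s := W.comp_mem _ _ ht χ.hs
    have := hinv s hs
    refine ⟨inv (L'.map s) ≫ L'.map f, ?_⟩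
    rw [Functor.map_comp, Functor.map_inv, IsIso.inv_comp_eq, ← cancel_mono (e.hom.app Y), ← cancel_epi (e.inv.app X')]
    refine Over.OverMorphism.ext ?_
    have h1 := hnat f
    have h2 := hnat s
    rw [h1]
    have : e.inv.app X' ≫ (Φ.map (L'.map s) ≫ φ) ≫ e.hom.app Y =
        (e.inv.app X' ≫ Φ.map (L'.map s) ≫ e.hom.app X) ≫ ψ := by simp [ψ]
    rw [this, Over.comp_left, h2, hχ]
    show L.map (t ≫ χ.f) = L.map (t ≫ χ.s) ≫ _
    rw [L.map_comp, L.map_comp, Category.assoc, MorphismProperty.RightFraction.map_s_comp_map]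
  · suffices key : ∀ (X Y : P.FullSubcategory) (α β : L'.obj X ⟶ L'.obj Y), Φ.map α = Φ.map β → α = β by
      refine ⟨fun {A B} α β h => ?_⟩
      obtain ⟨X, ⟨a⟩⟩ := hsurj A
      obtain ⟨Y, ⟨b⟩⟩ := hsurj B
      have := key X Y (a.hom ≫ α ≫ b.inv) (a.hom ≫ β ≫ b.inv) (by simp [h])
      simpa using this
    intro X Y α β h
    obtain ⟨X', s, hs, f, g, hf, hg⟩ := ModPairBasic.exists_common_denom (WS W S P) L' α β
    have := hinv s hs
    rw [← cancel_epi (L'.map s), hf, hg]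
    have h' : Φ.map (L'.map f) = Φ.map (L'.map g) := by rw [← hf, ← hg, Functor.map_comp, Functor.map_comp, h]
    have h'' : L.map f.hom.left = L.map g.hom.left := by rw [← hnat f, ← hnat g, h']
    obtain ⟨X₀, t, ht, htt⟩ := (MorphismProperty.map_eq_iff_precomp L W _ _).mp h''
    let X'' : P.FullSubcategory := ⟨Over.mk (t ≫ X'.obj.hom), hP X'.obj t ht X'.property⟩
    let r : X'' ⟶ X' := P.homMk (Over.homMk t : X''.obj ⟶ X'.obj)
    have := hinv r ht
    rw [← cancel_epi (L'.map r), ← L'.map_comp, ← L'.map_comp]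
    congr 1
    ext
    exact htt

include W in
theorem essSurj_of_total {E : Type u₃} [Category.{v₃} E] (L' : P.FullSubcategory ⥤ E)
    (Φ : E ⥤ Over (L.obj S)) (e : L' ⋙ Φ ≅ P.ι ⋙ Over.post L) (htot : ∀ X : Over S, P X) : Φ.EssSurj := by
  refine ⟨fun A => ?_⟩
  have := Localization.essSurj L W
  obtain ⟨χ, hχ⟩ := Localization.exists_rightFraction L W ((L.objObjPreimageIso A.left).hom ≫ A.hom)
  let X' : P.FullSubcategory := ⟨Over.mk χ.f, htot _⟩
  refine ⟨L'.obj X', ⟨e.app X' ≪≫ Over.isoMk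
    (Localization.isoOfHom L W χ.s χ.hs ≪≫ L.objObjPreimageIso A.left) ?_⟩⟩
  show (L.map χ.s ≫ (L.objObjPreimageIso A.left).hom) ≫ A.hom = L.map χ.f
  rw [Category.assoc, hχ, MorphismProperty.RightFraction.map_s_comp_map]

end Groth.Agent.SliceLoc
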